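import Groth.Agent.L23.Decent3
import Groth.Agent.L23.Sober
import Groth.Agent.S3433
import Mathlib.Topology.Spectral.Prespectral
import Mathlib.Topology.JacobsonSpace
import Mathlib.Topology.NoetherianSpace

/-!
# The proper generizations of a point of a decent space
-/

universe u

open CategoryTheory CategoryTheory.Limits AlgebraicGeometry Opposite AlgSp Topology TopologicalSpace

set_option autoImplicit false
set_option linter.style.haveILetI false
set_option backward.isDefEq.respectTransparency false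
set_option backward.isDefEq.respectTransparency.types false

noncomputable section

namespace Groth.L09.Punctured

open Groth.L23 Groth.L23.Pt

/-- The Jacobson property descends along surjections lifting generizations. -/
theorem jacobsonSpace_of_lift {P W : Type*} [TopologicalSpace P] [TopologicalSpace W] [JacobsonSpace P]
    [NoetherianSpace W] [T0Space W] {φ : P → W} (hc : Continuous φ) (hs : Function.Surjective φ)
    (hlift : ∀ {y : W} {q : P}, y ⤳ φ q → ∃ p : P, p ⤳ q ∧ φ p = y)
    (heq : ∀ {p p' : P}, p ⤳ p' → φ p = φ p' → p = p') : JacobsonSpace W := by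
  rw [jacobsonSpace_iff_locallyClosed]
  intro Z hZne hZ
  haveI : Nonempty Z := hZne.to_subtype
  obtain ⟨⟨y, hyZ⟩, -, hy⟩ := (isClosed_univ (X := Z)).exists_closed_singleton Set.univ_nonempty
  have hy' : closure {y} ∩ Z = {y} := by
    refine Set.Subset.antisymm (fun z hz => ?_) (Set.singleton_subset_iff.2 ⟨subset_closure rfl, hyZ⟩)
    have h1 : (⟨z, hz.2⟩ : Z) ∈ closure {(⟨y, hyZ⟩ : Z)} := by
      rw [closure_subtype, Set.image_singleton]; exact hz.1
    rw [hy.closure_eq] at h1
    exact congrArg Subtype.val h1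
  refine ⟨y, hyZ, ?_⟩
  show IsClosed {y}
  rw [← closure_subset_iff_isClosed]
  intro y' hy''
  obtain ⟨q, rfl⟩ := hs y'
  obtain ⟨p, hpq, hp⟩ := hlift (specializes_iff_mem_closure.2 hy'')
  have hlc : IsLocallyClosed ({p} : Set P) := by
    have : ({p} : Set P) = closure {p} ∩ φ ⁻¹' {y} := by
      refine Set.Subset.antisymm (Set.singleton_subset_iff.2 ⟨subset_closure rfl, hp⟩) fun p' hp' => ?_
      exact (heq (specializes_iff_mem_closure.2 hp'.1) (hp.trans hp'.2.symm)).symm
    rw [this, ← hy']
    exact isClosed_closure.isLocallyClosed.inter ((isClosed_closure.isLocallyClosed.inter hZ).preimage hc)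
  have hq : q ∈ ({p} : Set P) := by
    rw [← (isClosed_singleton_of_isLocallyClosed_singleton hlc).closure_eq]
    exact specializes_iff_mem_closure.1 hpq
  rw [Set.mem_singleton_iff.1 hq]
  exact hp

variable {S : Scheme.{u}} {X : Sp S}

theorem properties (hX : IsAlgSpace X) (hd : IsDecent X) (hN : IsLocNoethSp X) (x : Points X) :
    NoetherianSpace {x' : Points X // x' ⤳ x ∧ x' ≠ x} ∧ SpectralSpace {x' : Points X // x' ⤳ x ∧ x' ≠ x} ∧
      QuasiSober {x' : Points X // x' ⤳ x ∧ x' ≠ x} ∧ JacobsonSpace {x' : Points X // x' ⤳ x ∧ x' ≠ x} := by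
  haveI := t0Space_of_isDecent hX hd
  haveI := quasiSober_of_isDecent hX hd
  obtain ⟨U, a, ha, has⟩ := hX.atlas
  obtain ⟨u, hu⟩ := surjective_ofPt has x
  haveI := isLocallyNoetherian_of_chart hX hN ha
  let A := U.left.presheaf.stalk u
  let ι := U.left.fromSpecStalk u
  let W := {x' : Points X // x' ⤳ x ∧ x' ≠ x}
  let P := ↥({IsLocalRing.closedPoint A}ᶜ : Set (PrimeSpectrum A))
  have hι : ∀ p : PrimeSpectrum A, ι p ⤳ u := fun p => by
    have h : ι p ∈ Set.range ι := ⟨p, rfl⟩
    rwa [Scheme.range_fromSpecStalk] at h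
  have hιu : ι (IsLocalRing.closedPoint A) = u := Scheme.fromSpecStalk_closedPoint
  have hιe : IsEmbedding ι := ι.isEmbedding
  have hmem : ∀ p : P, Points.ofPt a (ι p.1) ⤳ x ∧ Points.ofPt a (ι p.1) ≠ x := fun p => by
    refine ⟨hu ▸ (hι p.1).map (Points.continuous_ofPt a), fun e => p.2 ?_⟩
    have h1 : u = ι p.1 := eq_of_specializes_of_isDecent hX hd ha u _ (hu.trans e.symm) (hι p.1)
    exact hιe.injective (h1.symm.trans hιu.symm)
  let φ : P → W := fun p => ⟨Points.ofPt a (ι p.1), hmem p⟩
  have hc : Continuous φ := ((Points.continuous_ofPt a).comp (ι.continuous.comp continuous_subtype_val)).subtype_mk _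
  have hlift : ∀ {y : W} (v : U.left), v ⤳ u → y.1 ⤳ Points.ofPt a v →
      ∃ p : P, ι p.1 ⤳ v ∧ Points.ofPt a (ι p.1) = y.1 := by
    intro y v hv hy
    obtain ⟨v', hv', he⟩ := exists_gen_lift hX hy (hd _) ha v rfl
    have h : v' ∈ Set.range ι := by rw [Scheme.range_fromSpecStalk]; exact hv'.trans hv
    obtain ⟨p, rfl⟩ := h
    exact ⟨⟨p, fun e => y.2.2 (he.symm.trans (by rw [Set.mem_singleton_iff.1 e, hιu, hu]))⟩, hv', he⟩
  have hs : Function.Surjective φ := fun y => by
    obtain ⟨p, -, hp⟩ := hlift (y := y) u specializes_rfl (hu.symm ▸ y.2.1)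
    exact ⟨p, Subtype.ext hp⟩
  haveI : IsNoetherianRing A := inferInstance
  haveI : NoetherianSpace P := inferInstance
  haveI : JacobsonSpace P := (Groth.Agent.S3433.result A).1
  haveI hNW : NoetherianSpace W := noetherianSpace_of_surjective φ hc hs
  haveI hQW : QuasiSober W := by
    refine ⟨fun {Z} hZ hZc => ?_⟩
    let v : W → Points X := Subtype.val
    have hi : IsIrreducible (closure (v '' Z)) := (hZ.image v continuous_subtype_val.continuousOn).closure
    obtain ⟨η, hη⟩ := QuasiSober.sober hi isClosed_closure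
    obtain ⟨z, hz⟩ := hZ.nonempty
    have hηz : η ⤳ z.1 := hη.specializes (subset_closure ⟨z, hz, rfl⟩)
    have hne : η ≠ x := fun e => z.2.2 ((z.2.1.antisymm (e ▸ hηz)).eq)
    refine ⟨⟨η, hηz.trans z.2.1, hne⟩, ?_⟩
    show closure _ = Z
    ext w
    rw [closure_subtype, Set.image_singleton, ← hZc.closure_eq, closure_subtype (s := Z), hη.def]
  haveI : QuasiSeparatedSpace W := ⟨fun U V _ _ _ _ => NoetherianSpace.isCompact _⟩
  refine ⟨hNW, { }, hQW, jacobsonSpace_of_lift hc hs (fun {y q} hy => ?_) fun {p p'} h e => ?_⟩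
  · obtain ⟨p, hp, hp'⟩ := hlift (y := y) (ι q.1) (hι q.1) ((subtype_specializes_iff _ _).1 hy)
    exact ⟨p, (subtype_specializes_iff _ _).2 (hιe.isInducing.specializes_iff.1 hp), Subtype.ext hp'⟩
  · exact Subtype.ext (hιe.injective (eq_of_specializes_of_isDecent hX hd ha _ _ (congrArg Subtype.val e).symm
      (((subtype_specializes_iff _ _).1 h).map ι.continuous)).symm)

end Groth.L09.Punctured
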